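import Groth.Agent.VBPn.K824.H2
import Groth.Agent.S1697

/-!
# The Schwarzenberger inequality on the plane

`rr_rank_two`: `2 χ(E(t)) = c² - 2 c₂ + (2 t + 3) c + 2 (t² + 3 t + 2)`; `euler_le`: `χ(E(t)) ≤ 0` if `H⁰(E(t))` and
`H⁰(E(-c-3-t))` vanish.
-/

set_option autoImplicit false
universe u
open AlgebraicGeometry CategoryTheory CategoryTheory.Limits TopologicalSpace Opposite Cyc
open Groth.Agent Groth.Agent.CycB Groth.Agent.CycB.DivFun
open K308.Grp K308 K307 K711 Finset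

namespace K824.Schw

open P2Deg RR

variable {k : Type u} [Field k] {δ : CohB1.ProjSpace 2 k → ℤ}

/-- `h ∩ [P²]` is the class of a line. -/
theorem hc_u (hX : IsSetup (CohB1.ProjSpace 2 k) δ)
    (hδ : DeltaCompat (CohB1.ProjSpace.toSpec 2 k) δ (fun _ => 0))
    {X2 line : AlgebraicCycle (CohB1.ProjSpace 2 k) ℤ}
    (hX2 : ⇑X2 = Cyc.subschemeFun δ 2 (𝟙 (CohB1.ProjSpace 2 k)))
    {ℓ : Fin 1 → LefPen.Form 2 k 1} (hℓ : LinearIndependent k ℓ)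
    (hline : ⇑line = Cyc.subschemeFun δ 1 (LefPen.ciIdeal (a := fun _ : Fin 1 => 1) ℓ).subschemeι) :
    hc hX (cl δ X2) = cl δ line := by
  have hL := TwistCls.isInvertible_twist 2 k 1
  have h1 : cl δ (capCycle hX hL X2) = hc hX (cl δ X2) := (c1_cl_capCycle hX hL X2).symm
  have hm : capCycle hX hL X2 ∈ Zk (CohB1.ProjSpace 2 k) δ ((1 : ℕ) : ℤ) := by
    refine K306.IntNum.c1_mem (a := ⇑X2) (fun x hx => ?_) (coe_capCycle hX hL X2)
    rw [hX2, Cyc.subschemeFun, if_neg]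
    intro h
    apply hx
    rw [h]
    norm_num
  have hm' : line ∈ Zk (CohB1.ProjSpace 2 k) δ ((1 : ℕ) : ℤ) := NumPt.subschemeFun_mem_zk _ hline
  rw [← h1]
  refine cl_eq_of_ratEquiv (ChowPn.ratEquiv_of_deg hδ hm hm' ?_)
  rw [← D_pow hX hδ hm, ← D_pow hX hδ hm', D_lin hX hδ (m := 1) hℓ (by simp) hline, h1]
  exact D_fund hX hδ (n := 2) hX2

/-- **Riemann–Roch for rank two bundles.** -/
theorem rr_rank_two (hX : IsSetup (CohB1.ProjSpace 2 k) δ)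
    (hδ : DeltaCompat (CohB1.ProjSpace.toSpec 2 k) δ (fun _ => 0))
    {X2 line pt : AlgebraicCycle (CohB1.ProjSpace 2 k) ℤ}
    (hX2 : ⇑X2 = Cyc.subschemeFun δ 2 (𝟙 (CohB1.ProjSpace 2 k)))
    {ℓ : Fin 1 → LefPen.Form 2 k 1} (hℓ : LinearIndependent k ℓ)
    {ℓ' : Fin 2 → LefPen.Form 2 k 1} (hℓ' : LinearIndependent k ℓ')
    (hline : ⇑line = Cyc.subschemeFun δ 1 (LefPen.ciIdeal (a := fun _ : Fin 1 => 1) ℓ).subschemeι)
    (hpt : ⇑pt = Cyc.subschemeFun δ 0 (LefPen.ciIdeal (a := fun _ : Fin 2 => 1) ℓ').subschemeι)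
    {E : (CohB1.ProjSpace 2 k).Modules} (hE : FlatMod.IsFinLocFreeOfRank 2 E) {c c2 : ℤ}
    (h1 : chE hX hE 1 (cl δ X2) = c • cl δ line) (h2 : chE hX hE 2 (cl δ X2) = c2 • cl δ pt)
    (s : ℤ) (h0 : Subsingleton (Coh.HH (CohB1.ProjSpace 2 k) (CohB1.tensorMod E (Twist.twistProjSpace 2 k s)) 0))
    (t : ℤ) : 2 * Curv2.euler k (CohB1.ProjSpace 2 k) (CohB1.tensorMod E (Twist.twistProjSpace 2 k t)) =
      c ^ 2 - 2 * c2 + (2 * t + 3) * c + 2 * (t ^ 2 + 3 * t + 2) := by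
  have hu : D hX hδ ((hc hX * hc hX) (cl δ X2)) = 1 := by
    have := D_fund hX hδ (n := 2) hX2
    rwa [pow_two] at this
  rw [(isRR_of_h0 hu hE s h0).formula hE t]
  have d1 : D hX hδ (hc hX (cl δ line)) = 1 := by
    have := D_lin hX hδ (m := 1) hℓ (by simp) hline
    rwa [pow_one] at this
  have d0 : D hX hδ (cl δ pt) = 1 := by
    have := D_lin hX hδ (m := 0) hℓ' (by simp) hpt
    rwa [pow_zero] at this
  have e1 : D hX hδ (hc hX (chE hX hE 1 (cl δ X2))) = c := by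
    rw [h1, map_zsmul, map_zsmul, d1, smul_eq_mul, mul_one]
  have e2 : D hX hδ (chE hX hE 1 (chE hX hE 1 (cl δ X2))) = c ^ 2 := by
    rw [h1, map_zsmul, map_zsmul, ← hc_u hX hδ hX2 hℓ hline]
    have := c1_chE hX hE (TwistCls.isInvertible_twist 2 k 1) 1 (cl δ X2)
    have h3 : chE hX hE 1 (hc hX (cl δ X2)) = hc hX (chE hX hE 1 (cl δ X2)) := this.symm
    rw [h3, e1, smul_eq_mul, pow_two]
  have e3 : D hX hδ (chE hX hE 2 (cl δ X2)) = c2 := by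
    rw [h2, map_zsmul, d0, smul_eq_mul, mul_one]
  have hψ : psi hX hE t (cl δ X2) = chE hX hE 1 (chE hX hE 1 (cl δ X2)) - (2 : ℤ) • chE hX hE 2 (cl δ X2) +
      (2 * t + 3) • (hc hX (chE hX hE 1 (cl δ X2))) +
      (((2 : ℕ) : ℤ) * (t ^ 2 + 3 * t + 2)) • ((hc hX * hc hX) (cl δ X2)) := rfl
  rw [hψ, map_add, map_add, map_sub, map_zsmul, map_zsmul, map_zsmul, e1, e2, e3, hu]
  simp only [smul_eq_mul, mul_one, Nat.cast_ofNat]

/-- The determinant of a rank two bundle with first Chern class `c`. -/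
theorem exists_det (hX : IsSetup (CohB1.ProjSpace 2 k) δ)
    (hδ : DeltaCompat (CohB1.ProjSpace.toSpec 2 k) δ (fun _ => 0)) {u : G (CohB1.ProjSpace 2 k) δ}
    (hu : D hX hδ ((hc hX * hc hX) u) = 1) {E : (CohB1.ProjSpace 2 k).Modules}
    (hE : FlatMod.IsFinLocFreeOfRank 2 E) {c : ℤ} (h : D hX hδ (hc hX (chE hX hE 1 u)) = c) :
    ∃ D₀ : (CohB1.ProjSpace 2 k).Modules, ExtPow.IsExtPow 2 E D₀ ∧ Nonempty (D₀ ≅ Twist.twistProjSpace 2 k c) := by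
  obtain ⟨D₀, hD₀⟩ := K482.CanonTool.exists_isExtPow 2 (Krr.H495.Rank.isFinLocFree_of_rank hE)
  have hinv := K482.CanonTool.isInvertible_extPow hE hD₀
  obtain ⟨m, ⟨e⟩⟩ := Groth.Agent.S1697.result k 2 D₀ hinv
  have h1 : chE hX hE 1 = m • hc hX := by
    rw [DetC1.chE_det hX hE hD₀, ← C1_eq hX hinv, C1_congr δ e, C1_twist hX]
  have h2 : hc hX (chE hX hE 1 u) = m • ((hc hX * hc hX) u) := by
    rw [h1]
    exact (hc hX).map_zsmul _ _
  rw [h2, map_zsmul, hu, smul_eq_mul, mul_one] at h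
  rw [h] at e
  exact ⟨D₀, hD₀, ⟨e⟩⟩

/-- `χ(E(t)) ≤ 0` if `H⁰` and `H²` vanish. -/
theorem euler_le {F : (CohB1.ProjSpace 2 k).Modules} (hF : Coh.IsCoh F)
    (h0 : Subsingleton (Coh.HH (CohB1.ProjSpace 2 k) F 0)) (h2 : Subsingleton (Coh.HH (CohB1.ProjSpace 2 k) F 2)) :
    Curv2.euler k (CohB1.ProjSpace 2 k) F ≤ 0 := by
  rw [VarietyA.EulerAdd.euler_eq_sum k F 3 fun i hi =>
    haveI := hF.1
    Groth.Agent.S0022.result 2 k F i (by omega)]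
  have a0 : Module.finrank k (Coh.HH (CohB1.ProjSpace 2 k) F 0) = 0 := Module.finrank_zero_of_subsingleton
  have a2 : Module.finrank k (Coh.HH (CohB1.ProjSpace 2 k) F 2) = 0 := Module.finrank_zero_of_subsingleton
  rw [sum_range_succ, sum_range_succ, sum_range_succ, sum_range_zero, a0, a2]
  have a1 : (0 : ℤ) ≤ Module.finrank k (Coh.HH (CohB1.ProjSpace 2 k) F 1) := Int.natCast_nonneg _
  simp only [pow_one, neg_mul, one_mul, Nat.cast_zero, mul_zero]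
  omega

/-- From sections to cohomology. -/
theorem h0_of_sec {X : Scheme.{u}} {M : X.Modules} (h : Subsingleton (M.presheaf.obj (op ⊤))) :
    Subsingleton (Coh.HH X M 0) :=
  (Ega3B.SectExact.secEquiv M).toEquiv.subsingleton

/-- **The Schwarzenberger inequality.** -/
theorem main (hX : IsSetup (CohB1.ProjSpace 2 k) δ)
    (hδ : DeltaCompat (CohB1.ProjSpace.toSpec 2 k) δ (fun _ => 0))
    {X2 line pt : AlgebraicCycle (CohB1.ProjSpace 2 k) ℤ}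
    (hX2 : ⇑X2 = Cyc.subschemeFun δ 2 (𝟙 (CohB1.ProjSpace 2 k)))
    {ℓ : Fin 1 → LefPen.Form 2 k 1} (hℓ : LinearIndependent k ℓ)
    {ℓ' : Fin 2 → LefPen.Form 2 k 1} (hℓ' : LinearIndependent k ℓ')
    (hline : ⇑line = Cyc.subschemeFun δ 1 (LefPen.ciIdeal (a := fun _ : Fin 1 => 1) ℓ).subschemeι)
    (hpt : ⇑pt = Cyc.subschemeFun δ 0 (LefPen.ciIdeal (a := fun _ : Fin 2 => 1) ℓ').subschemeι)
    {E : (CohB1.ProjSpace 2 k).Modules} (hE : FlatMod.IsFinLocFreeOfRank 2 E) {c c2 : ℤ}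
    (h1 : chE hX hE 1 (cl δ X2) = c • cl δ line) (h2 : chE hX hE 2 (cl δ X2) = c2 • cl δ pt)
    (t : ℤ) (ht : -3 - t - c ≤ t)
    (h0 : Subsingleton (Coh.HH (CohB1.ProjSpace 2 k) (CohB1.tensorMod E (Twist.twistProjSpace 2 k t)) 0)) :
    c ^ 2 - 2 * c2 + (2 * t + 3) * c + 2 * (t ^ 2 + 3 * t + 2) ≤ 0 := by
  have hEf := Krr.H495.Rank.isFinLocFree_of_rank hE
  rw [← rr_rank_two hX hδ hX2 hℓ hℓ' hline hpt hE h1 h2 t h0 t]
  have hu : D hX hδ ((hc hX * hc hX) (cl δ X2)) = 1 := by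
    have := D_fund hX hδ (n := 2) hX2
    rwa [pow_two] at this
  have d1 : D hX hδ (hc hX (cl δ line)) = 1 := by
    have := D_lin hX hδ (m := 1) hℓ (by simp) hline
    rwa [pow_one] at this
  have e1 : D hX hδ (hc hX (chE hX hE 1 (cl δ X2))) = c := by
    rw [h1, map_zsmul, map_zsmul, d1, smul_eq_mul, mul_one]
  obtain ⟨D₀, hD₀, ⟨e⟩⟩ := exists_det hX hδ hu hE e1
  have h3 := H2.subsingleton_H2 hE hD₀ c e t
    (K272.NegRes.h0_of_le hEf (show -3 + -t + -c ≤ t by omega) h0)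
  have h4 := euler_le (PerfA.CohSerre.isCoh_of_isFinLocFree (Sga67.LocBasis.isFinLocFree_tensorMod hEf
    (Krr.H495.Rank.isFinLocFree_of_rank (RR.rank_twist 2 t)))) h0 h3
  omega

end K824.Schw
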