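import Groth.Agent.Krr.H487.ExtPull
import Groth.Agent.Sga67.LocBasisOps
import Groth.Agent.Ega2.QCohLocal
import Groth.Agent.Krr.H495.Rank

/-!
# Contraction of the exterior square with a linear form

`exists_contr`: for `φ : E ⟶ N` and an exterior square `L` of `E` the morphism `L ⟶ N ⊗ E`,
`x ∧ y ↦ φ(x) ⊗ y - φ(y) ⊗ x`; it vanishes only if `φ` does when `E` has rank two and `N` is invertible.
-/

set_option autoImplicit false
universe u
open AlgebraicGeometry CategoryTheory CategoryTheory.Limits TopologicalSpace Opposite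
open scoped TensorProduct
open Groth.Agent Groth.Agent.Sga67.Sec Groth.Agent.Sga67.LocBasis Groth.Agent.Sga67.ExtSheaf

namespace K824.Contr

section Alg

variable {R M T : Type*} [CommRing R] [AddCommGroup M] [Module R M] [AddCommGroup T] [Module R T]

/-- The alternating map `B(x, y) - B(y, x)`. -/
def contrAlt (B : M →ₗ[R] M →ₗ[R] T) : M [⋀^Fin 2]→ₗ[R] T where
  toFun v := B (v 0) (v 1) - B (v 1) (v 0)
  map_update_add' := by
    intro inst v i x y
    have : inst = instDecidableEqFin 2 := Subsingleton.elim _ _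
    subst this
    fin_cases i
    · simp
      abel
    · simp
      abel
  map_update_smul' := by
    intro inst v i c x
    have : inst = instDecidableEqFin 2 := Subsingleton.elim _ _
    subst this
    fin_cases i
    · simp [smul_sub]
    · simp [smul_sub]
  map_eq_zero_of_eq' := by
    intro v i j h hij
    have : v 0 = v 1 := by
      fin_cases i <;> fin_cases j <;> simp_all
    rw [this, sub_self]

theorem contrAlt_apply (B : M →ₗ[R] M →ₗ[R] T) (v : Fin 2 → M) :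
    contrAlt B v = B (v 0) (v 1) - B (v 1) (v 0) := rfl

end Alg

variable {X : Scheme.{u}} {E N L : X.Modules}

/-- `(x, y) ↦ φ(x) ⊗ y` -/
noncomputable def bil (φ : E ⟶ N) (U : X.Opens) :
    Sec E U →ₗ[Γ(X, U)] Sec E U →ₗ[Γ(X, U)] Sec (CohB1.tensorMod N E) U :=
  ((TensorProduct.mk Γ(X, U) (Sec N U) (Sec E U)).compr₂ (tau N E U)).comp (appS φ U)

theorem bil_apply (φ : E ⟶ N) (U : X.Opens) (x y : Sec E U) :
    bil φ U x y = tau N E U (appS φ U x ⊗ₜ[Γ(X, U)] y) := rfl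

theorem bil_res (φ : E ⟶ N) {U V : X.Opens} (h : V ≤ U) (x y : Sec E U) :
    bil φ V (res E h x) (res E h y) = res _ h (bil φ U x y) := by
  rw [bil_apply, bil_apply, appS_res, ← tau_tres, tres_tmul]

/-- the contraction over an affine open -/
noncomputable def Psi (φL : Phi 2 E L) (φ : E ⟶ N) (U : X.affineOpens) :
    Sec L U.1 →ₗ[Γ(X, U.1)] Sec (CohB1.tensorMod N E) U.1 :=
  (exteriorPower.alternatingMapLinearEquiv (contrAlt (bil φ U.1))) ∘ₗ (φL U).toLinearMap

theorem Psi_apply (φL : Phi 2 E L) (φ : E ⟶ N) (U : X.affineOpens) (e : Fin 2 → Sec E U.1) :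
    Psi φL φ U ((φL U).symm (exteriorPower.ιMulti _ 2 e)) =
      bil φ U.1 (e 0) (e 1) - bil φ U.1 (e 1) (e 0) := by
  unfold Psi
  simp only [LinearMap.comp_apply, LinearEquiv.coe_coe, LinearEquiv.apply_symm_apply,
    exteriorPower.alternatingMapLinearEquiv_apply_ιMulti]
  rfl

theorem Psi_res {φL : Phi 2 E L} (hφL : PhiComp φL) (φ : E ⟶ N) (U V : X.affineOpens) (h : V.1 ≤ U.1)
    (s : Sec L U.1) : Psi φL φ V (res L h s) = res (CohB1.tensorMod N E) h (Psi φL φ U s) := by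
  refine phi_induction φL U (C := fun s => Psi φL φ V (res L h s) =
    res (CohB1.tensorMod N E) h (Psi φL φ U s)) ?_ ?_ ?_ ?_ s
  · simp only [map_zero]
  · intro x y hx hy
    rw [map_add, map_add, hx, hy, map_add, map_add]
  · intro a x hx
    have e1 := res_smul L h a x
    have e2 := (Psi φL φ V).map_smul (resO X h a) (res L h x)
    have e3 := (Psi φL φ U).map_smul a x
    have e4 := res_smul (CohB1.tensorMod N E) h a (Psi φL φ U x)
    rw [e1, e2, e3, e4, hx]
  · intro e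
    rw [hφL U V h e, Psi_apply, Psi_apply, map_sub, bil_res, bil_res]

theorem exists_contr {φL : Phi 2 E L} (hφL : PhiComp φL) (φ : E ⟶ N) :
    ∃ ψ : L ⟶ CohB1.tensorMod N E, ∀ (U : X.affineOpens) (e : Fin 2 → Sec E U.1),
      appS ψ U.1 ((φL U).symm (exteriorPower.ιMulti _ 2 e)) =
        bil φ U.1 (e 0) (e 1) - bil φ U.1 (e 1) (e 0) := by
  obtain ⟨g, hg⟩ := exists_hom_of_basis' (affineBasis X) L (CohB1.tensorMod N E)
    (Psi φL φ) (fun U V h s => Psi_res hφL φ U V h s)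
  refine ⟨g, fun U e => ?_⟩
  rw [hg U]
  exact Psi_apply φL φ U e

theorem eq_zero_of_contr (hE : FlatMod.IsFinLocFreeOfRank 2 E)
    (hN : PicF.IsInvertible N) {φ : E ⟶ N} 
    (hψ : ∀ (U : X.affineOpens) (e : Fin 2 → Sec E U.1),
        bil φ U.1 (e 0) (e 1) - bil φ U.1 (e 1) (e 0) = 0) : φ = 0 := by
  have hN1 : FlatMod.IsFinLocFreeOfRank 1 N := Ega2.QCohLocal.isFinLocFreeOfRank_one_iff.mpr hN
  apply hom_ext_of_locally
  intro x U hx
  obtain ⟨W₁, hxW₁, b, hb⟩ := (Krr.H495.Rank.isFinLocFreeOfRank_iff'.mp hE) x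
  obtain ⟨W₂, hxW₂, c, hc⟩ := (Krr.H495.Rank.isFinLocFreeOfRank_iff'.mp hN1) x
  obtain ⟨_, ⟨W, rfl⟩, hxW, hW⟩ := Opens.isBasis_iff_nbhd.mp (affineBasis X)
    (show x ∈ W₁ ⊓ W₂ ⊓ U from ⟨⟨hxW₁, hxW₂⟩, hx⟩)
  have hW1 : W.1 ≤ W₁ := hW.trans (inf_le_left.trans inf_le_left)
  have hW2 : W.1 ≤ W₂ := hW.trans (inf_le_left.trans inf_le_right)
  have hWU : W.1 ≤ U := hW.trans inf_le_right
  have hb' := hb.restrict hW1
  have hc' := hc.restrict hW2
  set b' : Fin 2 → Sec E W.1 := fun i => res E hW1 (b i) with hb'def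
  set c' : Fin 1 → Sec N W.1 := fun i => res N hW2 (c i) with hc'def
  have hT := isLocBasis_tensor hc' hb'
  refine ⟨W.1, hWU, hxW, fun s => ?_⟩
  obtain ⟨a, ha⟩ := (hb' W.1 le_rfl).2 s
  have hφ : ∀ i, ∃ r : Γ(X, W.1), appS φ W.1 (b' i) = r • c' 0 := fun i => by
    obtain ⟨r, hr⟩ := (hc' W.1 le_rfl).2 (appS φ W.1 (b' i))
    refine ⟨r 0, ?_⟩
    rw [← hr, comb_apply, Fin.sum_univ_one, res_self]
  choose r hr using hφ
  have h1 := hψ W b'
  rw [bil_apply, bil_apply, hr, hr, ← TensorProduct.smul_tmul', ← TensorProduct.smul_tmul', map_smul, map_smul] at h1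
  have h2 : comb (M := CohB1.tensorMod N E) (fun p : Fin 1 × Fin 2 => tau N E W.1 (c' p.1 ⊗ₜ[Γ(X, W.1)] b' p.2))
      (le_refl W.1) (fun p => if p.2 = 1 then r 0 else - r 1) = 0 := by
    rw [comb_apply, Fintype.sum_prod_type, Fin.sum_univ_one, Fin.sum_univ_two, res_self, res_self]
    simp only [Fin.isValue, zero_ne_one, ↓reduceIte]
    rw [neg_smul, add_comm, ← sub_eq_add_neg]
    exact h1
  have h3 := (hT W.1 le_rfl).1 (h2.trans (map_zero _).symm)
  have h40 : r 0 = 0 := by simpa using congrFun h3 (0, 1)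
  have h41 : r 1 = 0 := by simpa using congrFun h3 (0, 0)
  rw [appS_zero, ← ha, comb_apply, map_sum, Fin.sum_univ_two, map_smul, map_smul, res_self, res_self, hr, hr,
    h40, h41, zero_smul, smul_zero, smul_zero, add_zero]

/-- **Contraction**: a nonzero morphism `E ⟶ N` gives a nonzero morphism `∧²E ⟶ N ⊗ E`. -/
theorem hom_eq_zero (hE : FlatMod.IsFinLocFreeOfRank 2 E) (hL : ExtPow.IsExtPow 2 E L)
    (hN : PicF.IsInvertible N) (h : ∀ ψ : L ⟶ CohB1.tensorMod N E, ψ = 0) (φ : E ⟶ N) : φ = 0 := by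
  obtain ⟨φL, hφL⟩ := exists_phi hL
  obtain ⟨ψ, hψ⟩ := exists_contr hφL φ
  refine eq_zero_of_contr hE hN fun U e => ?_
  rw [← hψ, h ψ, appS_zero]

end K824.Contr
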