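import Groth.Agent.Cyc.K308.Ops
import Groth.Agent.Cyc.K308.ChernG
import Groth.Agent.CycA.SetupField
import Groth.Prelude.Def_ChowOps

/-!
# The degree homomorphism on the Chow group of a proper scheme over a field

`dg hX q hδ : G X δ →+ ℤ`, `dg_cl : dg (cl α) = ChowOps.deg q δ α`.
-/

set_option autoImplicit false
universe u
open AlgebraicGeometry CategoryTheory CategoryTheory.Limits TopologicalSpace Opposite Cyc
open Groth.Agent Groth.Agent.CycB Groth.Agent.CycB.DivFun
open K308.Grp K308

namespace K824.DegG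

variable {K : Type u} [Field K]

theorem ratEquivZero_spec {m : ℤ} {α : AlgebraicCycle (Spec (CommRingCat.of K)) ℤ}
    (h : RatEquivZero (fun _ => (0 : ℤ)) m α) (x : Spec (CommRingCat.of K)) : α x = 0 := by
  have hm := RatEquivZero.mem_Zk h
  by_cases h0 : m = 0
  · subst h0
    obtain ⟨ι, ξ, f, h1, -, -, h4⟩ := h
    have hι : IsEmpty ι := ⟨fun i => by simpa using h1 i⟩
    rw [h4 x, finsum_of_isEmpty]
  · exact hm x (fun h => h0 h.symm)

/-- The degree on the spectrum of a field. -/
noncomputable def evG (K : Type u) [Field K] : G (Spec (CommRingCat.of K)) (fun _ => (0 : ℤ)) →+ ℤ :=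
  QuotientAddGroup.lift (R (Spec (CommRingCat.of K)) (fun _ => (0 : ℤ)))
    (evH (IsLocalRing.closedPoint K : Spec (CommRingCat.of K))) fun α hα => by
      have h := ratEquivZero_spec (hα 0) (IsLocalRing.closedPoint K)
      have h2 := part_apply (fun _ => (0 : ℤ)) 0 α (IsLocalRing.closedPoint K : Spec (CommRingCat.of K))
      rw [if_pos rfl] at h2
      exact h2.symm.trans h

variable {X : Scheme.{u}} {δ : X → ℤ}

/-- The degree homomorphism. -/
noncomputable def dg (hX : IsSetup X δ) (q : X ⟶ Spec (CommRingCat.of K)) [IsProper q]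
    (hδ : DeltaCompat q δ (fun _ => (0 : ℤ))) : G X δ →+ ℤ :=
  (evG K).comp (push hX (CycA.SetupField.isSetup_Spec_field K) q hδ)

theorem dg_cl (hX : IsSetup X δ) (q : X ⟶ Spec (CommRingCat.of K)) [IsProper q]
    (hδ : DeltaCompat q δ (fun _ => (0 : ℤ))) (α : AlgebraicCycle X ℤ) :
    dg hX q hδ (cl δ α) = ChowOps.deg q δ α := rfl

end K824.DegG
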