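import Groth.Agent.VBPn.K824.Whitney
import Groth.Agent.Cyc.K308.C1Tensor
import Groth.Agent.ArSurf.K482.DetSes
import Groth.Agent.ArSurf.K482.CanonTool
import Groth.Agent.Omega.K935.CoprodRank

/-!
# The first Chern class is the first Chern class of the determinant

`chE_det : chE hX hE 1 = c1 hX hD` for `D` an `r`-th exterior power of `E`, `E` of rank `r`;
`chE_line : chE hX hL 1 = c1 hX hL'` for invertible `L`.
-/

set_option autoImplicit false
universe u v
open AlgebraicGeometry CategoryTheory CategoryTheory.Limits TopologicalSpace Opposite Cyc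
open Groth.Agent Groth.Agent.CycB Groth.Agent.CycB.DivFun
open K308.Grp K308 K307 Finset

namespace K824.DetC1

open K482.CanonTool

variable {X : Scheme.{u}} {δ : X → ℤ} {r : ℕ}

theorem SF_det (hX : IsSetup X δ) {Ls : List X.Modules} (hLs : ∀ L ∈ Ls, PicF.IsInvertible L) {E : X.Modules}
    (hE : SF Ls E) : FlatMod.IsFinLocFreeOfRank Ls.length E ∧
      ∀ D : X.Modules, ExtPow.IsExtPow Ls.length E D → ec δ Ls 1 = C1 δ D := by
  induction Ls generalizing E with
  | nil =>
    refine ⟨K935.CoprodRank.isFinLocFreeOfRank_zero_of_isZero hE, fun D hD => ?_⟩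
    obtain ⟨e⟩ := Sga67.TensorOps.nonempty_iso_of_isExtPow (Iso.refl E) (Sga67.TensorOps.isExtPow_zero E) hD
    rw [ec_nil_succ, ← C1_congr δ e, C1_structure hX]
  | cons L Ls ih =>
    obtain ⟨K, a, b, hab, hS, hK⟩ := hE
    have hL : PicF.IsInvertible L := hLs L (List.mem_cons_self)
    obtain ⟨h1, h2⟩ := ih (fun M hM => hLs M (List.mem_cons_of_mem _ hM)) hK
    have hL1 : FlatMod.IsFinLocFreeOfRank 1 L := Ega2.QCohLocal.isFinLocFreeOfRank_one_iff.mpr hL
    refine ⟨Krr.H495.Rank.rank_shortExact hS h1 hL1, fun D hD => ?_⟩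
    obtain ⟨dK, hdK⟩ := exists_isExtPow Ls.length (Krr.H495.Rank.isFinLocFree_of_rank h1)
    obtain ⟨e⟩ := K482.DetSes.det_ses hS h1 hL1 hdK hD (Sga67.TensorOps.isExtPow_one L)
    rw [ec_cons_succ, h2 dK hdK, ec_zero, mul_one, ← C1_congr δ e,
      C1_tensor hX (isInvertible_extPow h1 hdK) hL]

theorem chE_det (hX : IsSetup X δ) {E D : X.Modules} (hE : FlatMod.IsFinLocFreeOfRank r E)
    (hD : ExtPow.IsExtPow r E D) : chE hX hE 1 = c1 hX (isInvertible_extPow hE hD) := by
  have hrk : ∀ i, FlatMod.IsFinLocFreeOfRank (![r] i) (![E] i) := by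
    intro i
    fin_cases i
    exact hE
  obtain ⟨S⟩ := exists_splitting pbAll hX ![E] ![r] hrk
  have hlen : (S.Ls 0).length = r := S.length 0
  have hf : SF (S.Ls 0) ((Scheme.Modules.pullback S.π).obj E) := S.filt 0
  have hinv : ∀ L ∈ S.Ls 0, PicF.IsInvertible L := S.inv 0
  have hinv' : ∀ L ∈ (S.Ls 0).reverse, PicF.IsInvertible L := fun L hL =>
    hinv L (List.mem_reverse.1 hL)
  have hD' : ExtPow.IsExtPow (S.Ls 0).length ((Scheme.Modules.pullback S.π).obj E)
      ((Scheme.Modules.pullback S.π).obj D) := by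
    rw [hlen]
    exact isExtPow_pullback S.π (Krr.H495.Rank.isFinLocFree_of_rank hE) hD
  have key : ∀ a : G X δ, (chE hX hE 1 : AddMonoid.End (G X δ)) a =
      (c1 hX (isInvertible_extPow hE hD) : AddMonoid.End (G X δ)) a := by
    intro a
    apply S.pb_injective
    rw [Whitney.pb_chE hX S hE hinv' hf.rf (by rw [List.length_reverse, hlen]), ec_reverse,
      (SF_det S.setup hinv hf).2 _ hD', ← C1_eq hX (isInvertible_extPow hE hD),
      S.pb_c1 (isInvertible_extPow hE hD)]
  exact AddMonoidHom.ext key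

theorem chE_line (hX : IsSetup X δ) {L : X.Modules} (hL1 : FlatMod.IsFinLocFreeOfRank 1 L)
    (hL : PicF.IsInvertible L) : chE hX hL1 1 = c1 hX hL :=
  chE_det hX hL1 (Sga67.TensorOps.isExtPow_one L)

end K824.DetC1
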