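import Groth.Agent.VBPn.K824.DegG
import Groth.Agent.IntTh.K711.ChowPn
import Groth.Agent.Cyc.K306.IntNum
import Groth.Agent.Cyc.K307.Bun

/-!
# Degrees on projective space

`dg_pow`: the degree of `c₁(O(1))^m ∩ α` is `K711.ChowPn.deg n k m α`; the values on the fundamental cycle and
on linear subspaces are `1`.
-/

set_option autoImplicit false
universe u
open AlgebraicGeometry CategoryTheory CategoryTheory.Limits TopologicalSpace Opposite Cyc
open Groth.Agent Groth.Agent.CycB Groth.Agent.CycB.DivFun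
open K308.Grp K308 K307 K711

namespace K824.P2Deg

variable {k : Type u} [Field k] {n : ℕ} {δ : CohB1.ProjSpace n k → ℤ}

/-- the first Chern operator of `O(1)` -/
noncomputable def hc (hX : IsSetup (CohB1.ProjSpace n k) δ) : AddMonoid.End (G (CohB1.ProjSpace n k) δ) :=
  c1 hX (TwistCls.isInvertible_twist n k 1)

/-- the degree homomorphism of projective space -/
noncomputable def D (hX : IsSetup (CohB1.ProjSpace n k) δ)
    (hδ : DeltaCompat (CohB1.ProjSpace.toSpec n k) δ (fun _ => 0)) : G (CohB1.ProjSpace n k) δ →+ ℤ :=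
  have : IsProper (CohB1.ProjSpace.toSpec n k) := ProdPn.isProper n k
  DegG.dg hX (CohB1.ProjSpace.toSpec n k) hδ

theorem nonempty_inv (n : ℕ) (k : Type u) [Field k] :
    Nonempty (CohB1.tensorMod (Twist.twistProjSpace n k (-1)) (Twist.twistProjSpace n k 1) ≅
      Coh.structureModule (CohB1.ProjSpace n k)) := by
  obtain ⟨e⟩ := Sga67.TwistProj.nonempty_mul n k (-1) 1
  obtain ⟨e'⟩ := Ega2.TwistInv.nonempty_unit_iso (CohB1.polyGrading n k)
  exact ⟨e ≪≫ eqToIso (by rw [neg_add_cancel]; rfl) ≪≫ e'.symm⟩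

theorem D_pow (hX : IsSetup (CohB1.ProjSpace n k) δ)
    (hδ : DeltaCompat (CohB1.ProjSpace.toSpec n k) δ (fun _ => 0)) {m : ℕ}
    {α : AlgebraicCycle (CohB1.ProjSpace n k) ℤ} (hα : α ∈ Zk (CohB1.ProjSpace n k) δ m) :
    D hX hδ ((hc hX ^ m) (cl δ α)) = ChowPn.deg n k m α := by
  have hp : IsProper (CohB1.ProjSpace.toSpec n k) := ProdPn.isProper n k
  have hp' : IsProper (CohB1.ProjSpace n k ↘ Spec (CommRingCat.of k)) := ProdPn.isProper n k
  have hL := TwistCls.isInvertible_twist n k 1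
  obtain ⟨γ, h1, h2⟩ := Bun.exists_c1Pow hX hL (t := fun _ => sec hL) (fun _ ξ => sec_ne_zero hL ξ) α m
  have h3 := K306.IntNum.main k (CohB1.ProjSpace n k) hX hδ (D := n) (ProdPn.dim_le n k)
    (fun _ : Fin m => Twist.twistProjSpace n k 1) (fun _ : Fin m => Twist.twistProjSpace n k (-1))
    (fun _ => hL) (fun _ => TwistCls.isInvertible_twist n k (-1)) (fun _ => nonempty_inv n k)
    (fun _ => sec hL) (fun _ ξ => sec_ne_zero hL ξ)
    (fun i => c1PowFun δ (Twist.twistProjSpace n k 1) (fun _ => sec hL) i ⇑α) hα rfl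
    (fun i _ => rfl) h1
  have h4 : (hc hX ^ m) (cl δ α) = cl δ γ := h2.symm
  rw [h4]
  exact h3.symm

/-- the degree of a linear subspace -/
theorem D_lin (hX : IsSetup (CohB1.ProjSpace n k) δ)
    (hδ : DeltaCompat (CohB1.ProjSpace.toSpec n k) δ (fun _ => 0)) {ι : Type} [Fintype ι] {m : ℕ}
    {ℓ : ι → LefPen.Form n k 1} (hℓ : LinearIndependent k ℓ) (hcard : Fintype.card ι + m = n)
    {α : AlgebraicCycle (CohB1.ProjSpace n k) ℤ}
    (hα : ⇑α = Cyc.subschemeFun δ (m : ℤ) (LefPen.ciIdeal (a := fun _ : ι => 1) ℓ).subschemeι) :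
    D hX hδ ((hc hX ^ m) (cl δ α)) = 1 := by
  rw [D_pow hX hδ (NumPt.subschemeFun_mem_zk _ hα)]
  exact ChowPn.deg_ciIdeal hδ hℓ hcard hα

/-- the degree of the fundamental cycle -/
theorem D_fund (hX : IsSetup (CohB1.ProjSpace n k) δ)
    (hδ : DeltaCompat (CohB1.ProjSpace.toSpec n k) δ (fun _ => 0))
    {α : AlgebraicCycle (CohB1.ProjSpace n k) ℤ} (hα : ⇑α = Cyc.subschemeFun δ (n : ℤ) (𝟙 (CohB1.ProjSpace n k))) :
    D hX hδ ((hc hX ^ n) (cl δ α)) = 1 := by
  rw [D_pow hX hδ (NumPt.subschemeFun_mem_zk _ hα)]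
  have := ProdPn.isProper n k
  have h := NumPt.num_closed (k := k) (X := CohB1.ProjSpace n k) hδ (ProdPn.dim_le n k)
    (fun _ : Fin n => Twist.twistProjSpace n k (-1)) (fun _ => TwistCls.isInvertible_twist n k (-1))
    (𝟙 (CohB1.ProjSpace n k)) (Category.id_comp _) (ProdPn.dim_le n k) hα
  refine h.trans ?_
  have h2 := TwistCls.intNum_neg_one n k
  refine Eq.trans ?_ h2
  exact Groth.Agent.Fga.PicMon.intNum_congr k _ n _ _
    (fun _ => ⟨(Scheme.Modules.pullbackId _).app _⟩) _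

end K824.P2Deg
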