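import Groth.Agent.VBPn.K824.DetC1
import Groth.Agent.VBPn.K824.P2Deg
import Groth.Agent.ProjDual.K272.NegRes
import Groth.Agent.VarietyB.EulerBinom
import Groth.Agent.LefPen.K568.GenericForms

/-!
# Riemann–Roch on the projective plane

For a bundle `E` of rank `r` on `P²` with `H⁰(E(s)) = 0` for some `s`,
`2 χ(E(t)) = deg ((c₁² - 2 c₂) + (2 t + 3) h c₁ + r (t² + 3 t + 2) h²)`.
-/

set_option autoImplicit false
universe u
open AlgebraicGeometry CategoryTheory CategoryTheory.Limits TopologicalSpace Opposite Cyc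
open Groth.Agent Groth.Agent.CycB Groth.Agent.CycB.DivFun
open K308.Grp K308 K307 K711 Finset

namespace K824.RR

open P2Deg

variable {k : Type u} [Field k] {δ : CohB1.ProjSpace 2 k → ℤ} {r : ℕ}

theorem alg {R : Type*} [Ring R] (x y p q h : R) (hxy : x * y = y * x) (r₁ r₃ : ℕ) (t : ℤ) :
    (y + x) * (y + x) - (2 : ℤ) • (q + (x * y + p)) + (2 * t + 3) • (h * (y + x)) +
      (((r₁ + r₃ : ℕ) : ℤ) * (t ^ 2 + 3 * t + 2)) • (h * h) =
    (x * x - (2 : ℤ) • p + (2 * t + 3) • (h * x) + ((r₁ : ℤ) * (t ^ 2 + 3 * t + 2)) • (h * h)) +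
    (y * y - (2 : ℤ) • q + (2 * t + 3) • (h * y) + ((r₃ : ℤ) * (t ^ 2 + 3 * t + 2)) • (h * h)) := by
  have e : (((r₁ + r₃ : ℕ) : ℤ) * (t ^ 2 + 3 * t + 2)) = (r₁ : ℤ) * (t ^ 2 + 3 * t + 2) + (r₃ : ℤ) * (t ^ 2 + 3 * t + 2) := by
    push_cast; ring
  rw [e]
  generalize (r₁ : ℤ) * (t ^ 2 + 3 * t + 2) = A
  generalize (r₃ : ℤ) * (t ^ 2 + 3 * t + 2) = B
  generalize (2 * t + 3) = C
  rw [mul_add h y x, add_smul, smul_add C, add_mul, mul_add, mul_add, hxy, smul_add, smul_add, two_smul ℤ (y * x)]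
  abel

theorem alg2 {R : Type*} [Ring R] (h : R) (a t : ℤ) :
    (a • h) * (a • h) - (2 : ℤ) • (0 : R) + (2 * t + 3) • (h * (a • h)) +
      (((1 : ℕ) : ℤ) * (t ^ 2 + 3 * t + 2)) • (h * h) = ((a + t + 1) * (a + t + 2)) • (h * h) := by
  rw [smul_zero, sub_zero, smul_mul_smul_comm, mul_smul_comm, smul_smul, ← add_smul, ← add_smul]
  congr 1
  push_cast
  ring

/-- the Riemann–Roch operator -/
noncomputable def psi (hX : IsSetup (CohB1.ProjSpace 2 k) δ) {E : (CohB1.ProjSpace 2 k).Modules}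
    (hE : FlatMod.IsFinLocFreeOfRank r E) (t : ℤ) : AddMonoid.End (G (CohB1.ProjSpace 2 k) δ) :=
  chE hX hE 1 * chE hX hE 1 - (2 : ℤ) • chE hX hE 2 + (2 * t + 3) • (hc hX * chE hX hE 1) +
    ((r : ℤ) * (t ^ 2 + 3 * t + 2)) • (hc hX * hc hX)

theorem psi_congr (hX : IsSetup (CohB1.ProjSpace 2 k) δ) {E F : (CohB1.ProjSpace 2 k).Modules}
    (hE : FlatMod.IsFinLocFreeOfRank r E) (hF : FlatMod.IsFinLocFreeOfRank r F) (e : Nonempty (E ≅ F)) (t : ℤ) :
    psi hX hE t = psi hX hF t := by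
  unfold psi
  rw [chE_congr hX hE hF e 1, chE_congr hX hE hF e 2]

theorem psi_add (hX : IsSetup (CohB1.ProjSpace 2 k) δ) {r₁ r₂ r₃ : ℕ}
    {S : ShortComplex (CohB1.ProjSpace 2 k).Modules} (hS : S.ShortExact)
    (h₁ : FlatMod.IsFinLocFreeOfRank r₁ S.X₁) (h₂ : FlatMod.IsFinLocFreeOfRank r₂ S.X₂)
    (h₃ : FlatMod.IsFinLocFreeOfRank r₃ S.X₃) (hr : r₂ = r₁ + r₃) (t : ℤ) :
    psi hX h₂ t = psi hX h₁ t + psi hX h₃ t := by
  have w1 := Whitney.whitney hX h₁ h₂ h₃ hr S.f S.g S.zero hS 1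
  have w2 := Whitney.whitney hX h₁ h₂ h₃ hr S.f S.g S.zero hS 2
  have a1 : antidiagonal 1 = {((0 : ℕ), 1), (1, 0)} := rfl
  have a2 : antidiagonal 2 = {((0 : ℕ), 2), (1, 1), (2, 0)} := rfl
  rw [a1, sum_pair (by simp), chE_zero, chE_zero, one_mul, mul_one] at w1
  rw [a2, sum_insert (by simp), sum_pair (by simp), chE_zero, chE_zero, one_mul, mul_one] at w2
  have hcomm : chE hX h₁ 1 * chE hX h₃ 1 = chE hX h₃ 1 * chE hX h₁ 1 :=
    AddMonoidHom.ext fun a => chE_chE hX h₃ h₁ 1 1 a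
  unfold psi
  rw [w1, w2, hr]
  exact alg _ _ _ _ _ hcomm r₁ r₃ t

/-- Riemann–Roch for one bundle -/
def IsRR (hX : IsSetup (CohB1.ProjSpace 2 k) δ)
    (hδ : DeltaCompat (CohB1.ProjSpace.toSpec 2 k) δ (fun _ => 0)) (u : G (CohB1.ProjSpace 2 k) δ)
    (E : (CohB1.ProjSpace 2 k).Modules) : Prop :=
  ∃ (r : ℕ) (hE : FlatMod.IsFinLocFreeOfRank r E), ∀ t : ℤ,
    2 * Curv2.euler k (CohB1.ProjSpace 2 k) (CohB1.tensorMod E (Twist.twistProjSpace 2 k t)) =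
      D hX hδ (psi hX hE t u)

variable {hX : IsSetup (CohB1.ProjSpace 2 k) δ}
  {hδ : DeltaCompat (CohB1.ProjSpace.toSpec 2 k) δ (fun _ => 0)} {u : G (CohB1.ProjSpace 2 k) δ}

theorem nonempty_P2 : Nonempty (CohB1.ProjSpace 2 k) := by
  have := ProjDim.isIntegral_projSpace 2 k
  infer_instance

theorem IsRR.isCoh {E : (CohB1.ProjSpace 2 k).Modules} (h : IsRR hX hδ u E) : Coh.IsCoh E := by
  obtain ⟨r, hE, -⟩ := h
  exact PerfA.CohSerre.isCoh_of_isFinLocFree (Krr.H495.Rank.isFinLocFree_of_rank hE)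

theorem IsRR.formula {E : (CohB1.ProjSpace 2 k).Modules} (h : IsRR hX hδ u E)
    (hE : FlatMod.IsFinLocFreeOfRank r E) (t : ℤ) :
    2 * Curv2.euler k (CohB1.ProjSpace 2 k) (CohB1.tensorMod E (Twist.twistProjSpace 2 k t)) =
      D hX hδ (psi hX hE t u) := by
  obtain ⟨r', hE', h'⟩ := h
  have := nonempty_P2 (k := k)
  obtain rfl := Krr.H495.Rank.rank_unique hE hE'
  exact h' t

theorem IsRR.of_iso {E F : (CohB1.ProjSpace 2 k).Modules} (e : E ≅ F) (h : IsRR hX hδ u E) : IsRR hX hδ u F := by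
  obtain ⟨r, hE, h⟩ := h
  have hF := Krr.H495.Rank.rank_iso e hE
  refine ⟨r, hF, fun t => ?_⟩
  rw [← psi_congr hX hE hF ⟨e⟩, ← h t]
  congr 1
  exact VarietyA.EulerAdd.euler_congr k (Ega2.Tens.mapTIso e.symm (Iso.refl _))

theorem IsRR.ext {S : ShortComplex (CohB1.ProjSpace 2 k).Modules} (hS : S.ShortExact)
    (h₁ : IsRR hX hδ u S.X₁) (h₃ : IsRR hX hδ u S.X₃) : IsRR hX hδ u S.X₂ := by
  have c1 := h₁.isCoh
  have c3 := h₃.isCoh
  obtain ⟨r₁, e₁, f₁⟩ := h₁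
  obtain ⟨r₃, e₃, f₃⟩ := h₃
  have e₂ := Krr.H495.Rank.rank_shortExact hS e₁ e₃
  refine ⟨_, e₂, fun t => ?_⟩
  rw [psi_add hX hS e₁ e₂ e₃ rfl, end_add_apply, map_add, ← f₁ t, ← f₃ t, ← mul_add]
  congr 1
  exact VarietyB.EulerBinom.euler_obj_add k 2 hS c1
    (PerfA.CohSerre.isCoh_of_isFinLocFree (Krr.H495.Rank.isFinLocFree_of_rank e₂)) c3 t

theorem IsRR.quot {S : ShortComplex (CohB1.ProjSpace 2 k).Modules} (hS : S.ShortExact)
    (h₁ : IsRR hX hδ u S.X₁) (h₂ : IsRR hX hδ u S.X₂) (e₃ : FlatMod.IsFinLocFreeOfRank r S.X₃) :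
    IsRR hX hδ u S.X₃ := by
  have c1 := h₁.isCoh
  have c2 := h₂.isCoh
  obtain ⟨r₁, e₁, f₁⟩ := h₁
  have e₂ := Krr.H495.Rank.rank_shortExact hS e₁ e₃
  refine ⟨_, e₃, fun t => ?_⟩
  have f₂ := h₂.formula e₂ t
  rw [psi_add hX hS e₁ e₂ e₃ rfl, end_add_apply, map_add, ← f₁ t] at f₂
  have h := VarietyB.EulerBinom.euler_obj_add k 2 hS c1 c2
    (PerfA.CohSerre.isCoh_of_isFinLocFree (Krr.H495.Rank.isFinLocFree_of_rank e₃)) t
  have h' : Curv2.euler k (CohB1.ProjSpace 2 k) (CohB1.tensorMod S.X₂ (Twist.twistProjSpace 2 k t)) =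
    Curv2.euler k (CohB1.ProjSpace 2 k) (CohB1.tensorMod S.X₁ (Twist.twistProjSpace 2 k t)) +
    Curv2.euler k (CohB1.ProjSpace 2 k) (CohB1.tensorMod S.X₃ (Twist.twistProjSpace 2 k t)) := h
  rw [h'] at f₂
  linarith

/-- the first Chern operator of a twist -/
theorem C1_twist {n : ℕ} {δ : CohB1.ProjSpace n k → ℤ} (hX : IsSetup (CohB1.ProjSpace n k) δ) (a : ℤ) :
    C1 δ (Twist.twistProjSpace n k a) = a • hc hX := by
  let f : ℤ →+ AddMonoid.End (G (CohB1.ProjSpace n k) δ) :=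
    AddMonoidHom.mk' (fun a => C1 δ (Twist.twistProjSpace n k a)) fun a b => by
      obtain ⟨e⟩ := Sga67.TwistProj.nonempty_mul n k a b
      rw [← C1_congr δ e, C1_tensor hX (TwistCls.isInvertible_twist n k a) (TwistCls.isInvertible_twist n k b)]
  have h := map_zsmul f a 1
  rw [smul_eq_mul, mul_one] at h
  refine Eq.trans h ?_
  congr 1
  exact C1_eq hX (TwistCls.isInvertible_twist n k 1)

theorem rank_twist (n : ℕ) (a : ℤ) : FlatMod.IsFinLocFreeOfRank 1 (Twist.twistProjSpace n k a) :=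
  Ega2.QCohLocal.isFinLocFreeOfRank_one_iff.mpr (TwistCls.isInvertible_twist n k a)

theorem chE_twist {n : ℕ} {δ : CohB1.ProjSpace n k → ℤ} (hX : IsSetup (CohB1.ProjSpace n k) δ) (a : ℤ) :
    chE hX (rank_twist n a) 1 = a • hc hX := by
  rw [DetC1.chE_line hX (rank_twist n a) (TwistCls.isInvertible_twist n k a), ← C1_twist hX, C1_eq hX]

theorem c_two (t : ℤ) : 2 * VarietyB.EulerBinom.c 2 t = (t + 1) * (t + 2) := by
  have hN : ∀ d : ℕ, 2 * (VarietyB.EulerBinom.N 2 d : ℤ) = (d + 1) * (d + 2) := fun d => by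
    rw [← VarietyB.EulerBinom.finrank_homogeneous ℚ 2 d]
    have h1 : Module.finrank ℚ (MvPolynomial.homogeneousSubmodule (Fin (2 + 1)) ℚ d) = (2 + d).choose d :=
      K568.GenericForms.finrank_form (k := ℚ) 2 d
    rw [h1, ← Nat.choose_symm_add, Nat.choose_two_right]
    have h2 : 2 ∣ (2 + d) * (2 + d - 1) := by
      have : 2 + d - 1 = d + 1 := by omega
      rw [this, show 2 + d = (d + 1) + 1 by ring, mul_comm]
      exact (Nat.even_mul_succ_self (d + 1)).two_dvd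
    have h3 : 2 * ((2 + d) * (2 + d - 1) / 2) = (2 + d) * (2 + d - 1) := Nat.mul_div_cancel' h2
    have h4 : 2 + d - 1 = d + 1 := by omega
    rw [h4] at h3 ⊢
    have h5 : (2 : ℤ) * (((2 + d) * (d + 1) / 2 : ℕ) : ℤ) = ((2 + d) * (d + 1) : ℕ) := by
      exact_mod_cast h3
    rw [h5]
    push_cast
    ring
  unfold VarietyB.EulerBinom.c
  split_ifs with h1 h2
  · rw [hN, Int.toNat_of_nonneg h1]
  · rw [show ((2 : ℕ) : ℤ) + 1 = 3 by norm_num] at *
    have h3 := hN (-3 - t).toNat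
    rw [Int.toNat_of_nonneg (by omega)] at h3
    rw [neg_one_sq, one_mul, h3]
    ring
  · have h3 : t = -1 ∨ t = -2 := by omega
    rcases h3 with rfl | rfl <;> norm_num

theorem isRR_twist (hu : D hX hδ ((hc hX * hc hX) u) = 1) (a : ℤ) : IsRR hX hδ u (Twist.twistProjSpace 2 k a) := by
  refine ⟨1, rank_twist 2 a, fun t => ?_⟩
  obtain ⟨e⟩ := Sga67.TwistProj.nonempty_mul 2 k a t
  rw [VarietyA.EulerAdd.euler_congr k e, VarietyB.EulerBinom.euler_twist, c_two]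
  have h : psi hX (rank_twist 2 a) t = ((a + t + 1) * (a + t + 2)) • (hc hX * hc hX) := by
    unfold psi
    rw [chE_twist, chE_eq_zero hX (rank_twist 2 a) (show 1 < 2 by norm_num)]
    exact alg2 _ a t
  rw [h]
  have h2 : (((a + t + 1) * (a + t + 2)) • (hc hX * hc hX)) u =
      ((a + t + 1) * (a + t + 2)) • ((hc hX * hc hX) u) := rfl
  rw [h2, map_zsmul, hu, smul_eq_mul, mul_one]

/-- Riemann–Roch for all twists -/
def IsRRt (hX : IsSetup (CohB1.ProjSpace 2 k) δ)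
    (hδ : DeltaCompat (CohB1.ProjSpace.toSpec 2 k) δ (fun _ => 0)) (u : G (CohB1.ProjSpace 2 k) δ)
    (E : (CohB1.ProjSpace 2 k).Modules) : Prop :=
  ∀ s : ℤ, IsRR hX hδ u (CohB1.tensorMod E (Twist.twistProjSpace 2 k s))

theorem isRRt_twist (hu : D hX hδ ((hc hX * hc hX) u) = 1) (a : ℤ) :
    IsRRt hX hδ u (Twist.twistProjSpace 2 k a) := fun s => by
  obtain ⟨e⟩ := Sga67.TwistProj.nonempty_mul 2 k a s
  exact (isRR_twist hu (a + s)).of_iso e.symm

theorem IsRRt.of_iso {E F : (CohB1.ProjSpace 2 k).Modules} (e : E ≅ F) (h : IsRRt hX hδ u E) :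
    IsRRt hX hδ u F := fun s => (h s).of_iso (Ega2.Tens.mapTIso e (Iso.refl _))

theorem isRR_zero (hu : D hX hδ ((hc hX * hc hX) u) = 1) {M : (CohB1.ProjSpace 2 k).Modules} (hM : IsZero M) :
    IsRR hX hδ u M := by
  have h0 := K935.CoprodRank.isFinLocFreeOfRank_zero_of_isZero hM
  let A : (CohB1.ProjSpace 2 k).Modules := Twist.twistProjSpace 2 k 0
  have hS : (ShortComplex.mk (𝟙 A) (0 : A ⟶ M) (by simp)).ShortExact := by
    have h1 : Epi (0 : A ⟶ M) := ⟨fun g h _ => hM.eq_of_src g h⟩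
    refine ShortComplex.ShortExact.mk' ?_ inferInstance h1
    rw [ShortComplex.exact_iff_epi _ rfl]
    exact inferInstanceAs (Epi (𝟙 A))
  exact (isRR_twist hu 0).quot hS (isRR_twist hu 0) h0

theorem IsRRt.coprod (hu : D hX hδ ((hc hX * hc hX) u) = 1) {n : ℕ}
    (M : Fin n → (CohB1.ProjSpace 2 k).Modules) (h : ∀ i, IsRRt hX hδ u (M i)) : IsRRt hX hδ u (∐ M) := by
  induction n with
  | zero =>
    have h1 : IsZero (∐ M) := by
      rw [IsZero.iff_id_eq_zero]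
      exact Sigma.hom_ext _ _ fun l => l.elim0
    intro s
    exact isRR_zero hu ((DCoh.tensorRightMod (Twist.twistProjSpace 2 k s)).map_isZero h1)
  | succ r ih =>
    let e : ∐ M ≅ M 0 ⊞ ∐ (fun l : Fin r => M l.succ) :=
      (coproductIsCoproduct M).coconePointUniqueUpToIso
        (extendCofanIsColimit M (coproductIsCoproduct (fun l : Fin r => M l.succ))
          (BinaryBiproduct.isColimit (M 0) (∐ fun l : Fin r => M l.succ)))
    have ih' := ih (fun l => M l.succ) fun l => h l.succ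
    refine IsRRt.of_iso e.symm fun s => ?_
    exact IsRR.ext (VarietyB.EulerBinom.shortExact_twist k 2
      (ShortComplex.Splitting.ofHasBinaryBiproduct (M 0) (∐ fun l : Fin r => M l.succ)).shortExact s) (h 0 s) (ih' s)

/-- **Riemann–Roch on the plane** for bundles with `H⁰(E(s)) = 0` for some `s`. -/
theorem isRR_of_h0 (hu : D hX hδ ((hc hX * hc hX) u) = 1) {E : (CohB1.ProjSpace 2 k).Modules}
    (hE : FlatMod.IsFinLocFreeOfRank r E) (s : ℤ)
    (h : Subsingleton (Coh.HH (CohB1.ProjSpace 2 k) (CohB1.tensorMod E (Twist.twistProjSpace 2 k s)) 0)) :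
    IsRR hX hδ u E := by
  have hE' : FlatMod.IsFinLocFreeOfRank r (CohB1.tensorMod E (Twist.twistProjSpace 2 k (s + 1))) := by
    have := Krr.H495.Rank.rank_tensor hE (rank_twist 2 (k := k) (s + 1))
    rwa [mul_one] at this
  obtain ⟨e1⟩ := Sga67.SerreVB.nonempty_tw_tw 2 k (s + 1) (-1) E
  have h' : Subsingleton (Coh.HH (CohB1.ProjSpace 2 k) (CohB1.tensorMod
      (CohB1.tensorMod E (Twist.twistProjSpace 2 k (s + 1))) (Twist.twistProjSpace 2 k (-1))) 0) := by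
    rw [show s + 1 + -1 = s by ring] at e1
    exact Gaga.H883.Serre.HH_congr e1.symm 0 h
  obtain ⟨n₁, n₂, kk, mm, S, hS, -, -, ⟨f1⟩, ⟨f2⟩, ⟨f3⟩⟩ :=
    K272.NegRes.exists_res_P2 (Krr.H495.Rank.isFinLocFree_of_rank hE') h'
  have g1 : IsRRt hX hδ u S.X₁ := (IsRRt.coprod hu _ fun i => isRRt_twist hu (kk i)).of_iso f1.symm
  have g2 : IsRRt hX hδ u S.X₂ := (IsRRt.coprod hu _ fun i => isRRt_twist hu (mm i)).of_iso f2.symm
  obtain ⟨e2⟩ := Sga67.SerreVB.nonempty_tw_tw 2 k (s + 1 + -1) (-s) E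
  obtain ⟨e3⟩ := Sga67.SerreVB.nonempty_tw_zero 2 k E
  rw [show s + 1 + -1 + -s = 0 by ring] at e2
  let T := DCoh.tensorRightMod (Twist.twistProjSpace 2 k (-s))
  let e4 : T.obj S.X₃ ≅ E := T.mapIso (f3 ≪≫ e1) ≪≫ e2 ≪≫ e3
  have hS' := VarietyB.EulerBinom.shortExact_twist k 2 hS (-s)
  refine IsRR.of_iso e4 ?_
  exact IsRR.quot hS' (g1 (-s)) (g2 (-s)) (Krr.H495.Rank.rank_iso e4.symm hE)

end K824.RR
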