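import Groth.Agent.VBPn.K824.Contr
import Groth.Agent.VBPn.K698.H0
import Groth.Agent.VBPn.K700.HomVan
import Groth.Agent.VBCurve.K708.HomH0
import Groth.Agent.S2926
import Groth.Agent.VBPn.K824.RR

/-!
# `H²(E(t)) = 0` for rank two bundles on the plane with `H⁰(E(-c-3-t)) = 0`
-/

set_option autoImplicit false
universe u
open AlgebraicGeometry CategoryTheory CategoryTheory.Limits TopologicalSpace Opposite
open Groth.Agent

namespace K824.H2

variable {k : Type u} [Field k]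

theorem subsingleton_of_dual {V : Type*} [AddCommGroup V] [Module k V]
    (h : Subsingleton (Module.Dual k V)) : Subsingleton V := by
  have h7 : ∀ x : V, x = 0 := fun x => by
    rw [← Module.forall_dual_apply_eq_zero_iff k x]
    intro f
    rw [Subsingleton.elim f 0, LinearMap.zero_apply]
  exact ⟨fun a b => (h7 a).trans (h7 b).symm⟩

theorem comp_iso_eq_zero {C : Type*} [Category C] [HasZeroMorphisms C] {A B B' B'' : C} (a : A ⟶ B) (b : B ⟶ B')
    (e : B' ≅ B'') (h : a ≫ b ≫ e.hom = 0) : a ≫ b = 0 := by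
  rw [← cancel_mono e.hom, Category.assoc, h, zero_comp]

theorem hom_tw_eq_zero {n : ℕ} {E : (CohB1.ProjSpace n k).Modules} {t a : ℤ}
    (h : ∀ φ : E ⟶ Twist.twistProjSpace n k (a + -t), φ = 0)
    (φ : CohB1.tensorMod E (Twist.twistProjSpace n k t) ⟶ Twist.twistProjSpace n k a) : φ = 0 := by
  obtain ⟨e1⟩ := Sga67.SerreVB.nonempty_tw_tw n k t (-t) E
  obtain ⟨e2⟩ := Sga67.SerreVB.nonempty_tw_zero n k E
  rw [show t + -t = 0 by ring] at e1
  obtain ⟨e3⟩ := Sga67.TwistProj.nonempty_mul n k a (-t)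
  obtain ⟨e4⟩ := Sga67.TwistProj.nonempty_mul n k (-t) t
  obtain ⟨e5⟩ := Ega2.TwistInv.nonempty_unit_iso (CohB1.polyGrading n k)
  let e6 : CohB1.tensorMod (Twist.twistProjSpace n k (-t)) (Twist.twistProjSpace n k t) ≅
      Coh.structureModule (CohB1.ProjSpace n k) := e4 ≪≫ eqToIso (by rw [neg_add_cancel]; rfl) ≪≫ e5.symm
  have := K700.HomVan.isEquivalence_of_inv e6
  let T := DCoh.tensorRightMod (Twist.twistProjSpace n k (-t))
  apply T.map_injective
  let a1 : E ≅ T.obj (CohB1.tensorMod E (Twist.twistProjSpace n k t)) := (e1 ≪≫ e2).symm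
  have h2 := h (a1.hom ≫ T.map φ ≫ e3.hom)
  rw [Functor.map_zero, ← cancel_epi a1.hom, comp_zero]
  exact comp_iso_eq_zero a1.hom (T.map φ) e3 h2

/-- **Vanishing of `H²`** -/
theorem subsingleton_H2 {E D : (CohB1.ProjSpace 2 k).Modules} (hE : FlatMod.IsFinLocFreeOfRank 2 E)
    (hD : ExtPow.IsExtPow 2 E D) (c : ℤ) (e : D ≅ Twist.twistProjSpace 2 k c) (t : ℤ)
    (h : Subsingleton (Coh.HH (CohB1.ProjSpace 2 k)
      (CohB1.tensorMod E (Twist.twistProjSpace 2 k (-3 + -t + -c))) 0)) :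
    Subsingleton (Coh.HH (CohB1.ProjSpace 2 k) (CohB1.tensorMod E (Twist.twistProjSpace 2 k t)) 2) := by
  have hEf := Krr.H495.Rank.isFinLocFree_of_rank hE
  let F : (CohB1.ProjSpace 2 k).Modules := CohB1.tensorMod E (Twist.twistProjSpace 2 k t)
  have hF : FlatMod.IsFinLocFree F :=
    Sga67.LocBasis.isFinLocFree_tensorMod hEf (Krr.H495.Rank.isFinLocFree_of_rank (RR.rank_twist 2 t))
  have hinst : DCoh.HasSheafHom F := Sga2.PnHomAdj.hasSheafHom _
  obtain ⟨e2⟩ := Groth.Agent.S2926.result k 2 F hF 2 le_rfl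
  -- morphisms out of `E`
  have h1 : ∀ φ : E ⟶ Twist.twistProjSpace 2 k (-3 + -t), φ = 0 := by
    refine Contr.hom_eq_zero hE hD (K711.TwistCls.isInvertible_twist 2 k _) fun ψ => ?_
    have h3 : ∀ v : Twist.twistProjSpace 2 k c ⟶
        CohB1.tensorMod E (Twist.twistProjSpace 2 k (-3 + -t)), v = 0 := by
      rw [← K698.H0.hh0_iff]
      obtain ⟨f⟩ := Sga67.SerreVB.nonempty_tw_tw 2 k (-3 + -t) (-c) E
      exact Gaga.H883.Serre.HH_congr f.symm 0 h
    have h4 := h3 (e.inv ≫ ψ ≫ (Ega2.Tens.swap _ _).hom)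
    rw [← cancel_epi e.inv, ← cancel_mono (Ega2.Tens.swap (Twist.twistProjSpace 2 k (-3 + -t)) E).hom,
      Category.assoc, h4, comp_zero, zero_comp]
  have h2 : ∀ φ : F ⟶ Twist.twistProjSpace 2 k (-3), φ = 0 := hom_tw_eq_zero h1
  have h5 : Subsingleton (Coh.HH (CohB1.ProjSpace 2 k)
      ((DCoh.sheafHom F).obj (Twist.twistProjSpace 2 k (-(((2 : ℕ) : ℤ) + 1)))) 0) := by
    have e3 : -(((2 : ℕ) : ℤ) + 1) = -3 := by norm_num
    rw [e3, ← K708.HomH0.forall_unit_hom_eq_zero_iff]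
    intro φ
    apply ((DCoh.sheafHomAdj F).homEquiv (Coh.structureModule (CohB1.ProjSpace 2 k)) _).symm.injective
    have h6 : ∀ ψ : CohB1.tensorMod F (Coh.structureModule (CohB1.ProjSpace 2 k)) ⟶
        Twist.twistProjSpace 2 k (-3), ψ = 0 := fun ψ => by
      rw [← cancel_epi (Ega2.Tens.runit F).inv, comp_zero]
      exact h2 _
    exact (h6 _).trans (h6 _).symm
  have h6 : Subsingleton (Module.Dual k (Coh.HH (CohB1.ProjSpace 2 k) F 2)) := e2.toEquiv.subsingleton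
  exact subsingleton_of_dual h6

end K824.H2
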