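import Groth.Agent.Cyc.K308.PBAllPf
import Groth.Agent.Cyc.K308.SumAnti
import Groth.Agent.Cyc.K307.Chern

/-!
# The Whitney sum formula for Chern operators

`whitney`: `c_j(E) = ∑_{a+b=j} c_a(E₁) c_b(E₂)` in `End (G X δ)` for a short exact sequence of finite
locally free modules; `chE_line`: `c_1(L) = C1 δ L`.
-/

set_option autoImplicit false
universe u v
open AlgebraicGeometry CategoryTheory CategoryTheory.Limits TopologicalSpace Opposite Cyc
open Groth.Agent.CycB Groth.Agent.CycB.DivFun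
open K308.Grp K308 K307 Finset

namespace K824.Whitney

variable {X : Scheme.{u}} {δ : X → ℤ} {r r₁ r₂ : ℕ}

theorem pb_chE (hX : IsSetup X δ) {m : ℕ} {F : Fin m → X.Modules} {rk : Fin m → ℕ}
    (S : Splitting hX F rk) {E : X.Modules} (hE : FlatMod.IsFinLocFreeOfRank r E)
    {Ls : List S.Y.Modules} (hLs : ∀ L ∈ Ls, PicF.IsInvertible L)
    (hE' : RF Ls ((Scheme.Modules.pullback S.π).obj E)) (hn : Ls.length = r) (j : ℕ) (a : G X δ) :
    S.pb (chE hX hE j a) = ec S.δ Ls j (S.pb a) := by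
  obtain ⟨B, rfl⟩ := Bun.exists_bun hX E hE
  rw [← B.ch_eq hE ⟨Iso.refl _⟩]
  by_cases hj : j ≤ r
  · have hc : ChernRel B.setup hX B.p B.shift B.O1 r (fun j => B.ch j a) := by
      have := B.rel_ch a
      unfold Bun.rel at this
      unfold ChernRel
      rw [C1_eq B.setup B.inv]
      exact this
    have h := S.pb_chern' pbAll hLs hE' hn hE B.setup B.compat B.shift B.isPB hc j hj
    rw [h, B.ch_zero]
    rfl
  · rw [B.ch_eq_zero (by omega), ec_eq_zero _ _ (by omega)]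
    change S.pb 0 = 0
    rw [map_zero]

theorem whitney (hX : IsSetup X δ) {E₁ E E₂ : X.Modules} (h₁ : FlatMod.IsFinLocFreeOfRank r₁ E₁)
    (hE : FlatMod.IsFinLocFreeOfRank r E) (h₂ : FlatMod.IsFinLocFreeOfRank r₂ E₂)
    (hr : r = r₁ + r₂)
    (a : E₁ ⟶ E) (b : E ⟶ E₂) (hab : a ≫ b = 0) (hex : (ShortComplex.mk a b hab).ShortExact)
    (j : ℕ) :
    chE hX hE j = ∑ ab ∈ antidiagonal j, chE hX h₁ ab.1 * chE hX h₂ ab.2 := by
  subst hr
  have hrk : ∀ i, FlatMod.IsFinLocFreeOfRank (![r₁, r₂] i) (![E₁, E₂] i) := by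
    intro i
    fin_cases i
    · exact h₁
    · exact h₂
  obtain ⟨S⟩ := exists_splitting pbAll hX ![E₁, E₂] ![r₁, r₂] hrk
  have := Groth.Agent.Sga67.FlatPre.preservesFiniteLimits_pullback S.π
  have hS := hex.map_of_exact (Scheme.Modules.pullback S.π)
  have hepi : Epi ((Scheme.Modules.pullback S.π).map b) := hS.epi_g
  have hF1 : SF (S.Ls 0) ((Scheme.Modules.pullback S.π).obj E₁) := S.filt 0
  have hF2 : SF (S.Ls 1) ((Scheme.Modules.pullback S.π).obj E₂) := S.filt 1
  have hlen1 : (S.Ls 0).length = r₁ := S.length 0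
  have hlen2 : (S.Ls 1).length = r₂ := S.length 1
  have hF : RF ((S.Ls 0).reverse ++ (S.Ls 1).reverse) ((Scheme.Modules.pullback S.π).obj E) :=
    RF.ext hF1.rf hF2.rf _ _ _ hS.exact
  have hi1 : ∀ L ∈ (S.Ls 0).reverse, PicF.IsInvertible L := fun L hL =>
    S.inv 0 L (List.mem_reverse.1 hL)
  have hi2 : ∀ L ∈ (S.Ls 1).reverse, PicF.IsInvertible L := fun L hL =>
    S.inv 1 L (List.mem_reverse.1 hL)
  have hinv : ∀ L ∈ (S.Ls 0).reverse ++ (S.Ls 1).reverse, PicF.IsInvertible L := by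
    intro L hL
    rw [List.mem_append] at hL
    exact hL.elim (hi1 L) (hi2 L)
  have hl1 : ((S.Ls 0).reverse).length = r₁ := by rw [List.length_reverse, hlen1]
  have hl2 : ((S.Ls 1).reverse).length = r₂ := by rw [List.length_reverse, hlen2]
  have hlen : ((S.Ls 0).reverse ++ (S.Ls 1).reverse).length = r₁ + r₂ := by
    rw [List.length_append, hl1, hl2]
  have key : ∀ x : G X δ, (chE hX hE j : AddMonoid.End (G X δ)) x =
      (∑ ab ∈ antidiagonal j, chE hX h₁ ab.1 * chE hX h₂ ab.2 : AddMonoid.End (G X δ)) x := by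
    intro x
    apply S.pb_injective
    rw [pb_chE hX S hE hinv hF hlen, ec_append, ← AddMonoid.End.sum_apply',
      ← AddMonoid.End.sum_apply', map_sum]
    refine Finset.sum_congr rfl fun p _ => ?_
    rw [end_mul_apply, end_mul_apply, pb_chE hX S h₁ hi1 hF1.rf hl1,
      pb_chE hX S h₂ hi2 hF2.rf hl2]
  exact AddMonoidHom.ext key

end K824.Whitney
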